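import Mathlib
import Cfsg.Agent.Spor.Comp.Pres

/-! Generated by tools/pg: stabiliser chain sH -/

set_option autoImplicit false
set_option maxRecDepth 100000
set_option linter.unusedVariables false
set_option exponentiation.threshold 100000

namespace Cfsg.Agent.Spor.MHe

open Cfsg.Agent.Spor

noncomputable def sH_S_t0 : BT :=
(.node (.node (.node (.node (.node (.leaf (nat_lit 0x4691163d09d3e6c9972a653a35294287120b76cd5c3c72e9dbd80fdf11245098e1a3c8080e1430b182849e3a7d021449119b3868c982e54b3262cda2d5cc17a750992ac56a55040604100))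
 (.leaf (nat_lit 0x44850e0bc74edcc07cfdeb86cddad4a54e8cc952e4d09d3e6c88d1e2b464cd8ac54ad4b05cbd6a84c9d2a4448d09c346cca03c7ce982c5ca94244c88c142c4901c3c6880c1c2830808080))
) (.leaf (nat_lit 0x3464cd8b05cbd6a84c9d2ac54ad4c4850e0c07cfdeb86cddabc74edcd4a54e8d09d3e6c88d1e2cc952e4a4448d0a03c7ce982c5ca9c346cc92265088a163048e1e406860e20284040c080))
) (.node (.leaf (nat_lit 0x202a6d1194878ba33460e963e84e3d86e1d3772fa23c6d05fc280eda871c50492161480c223c30d10289cf99463548f3a4c5a52e84a9b229b24ac15ad54cd42c5e998a768a57040004103))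
 (.leaf (nat_lit 0x4e9f426d2a7528ca97324c68f222ae5ec16b266d18aa56b14a64ea12be7f01ec287120ba76f1cb66ee1a9e3e80ea2469109a3670c962e60a8c142c4901c3c694244c8880c1c2820610080))
)) (.node (.node (.node (.leaf (nat_lit 0x20774885037085c0968893056c819c873864c46f89bca67872c66b82186f184482ed83b88e583284e980247f28a543ee87c49e685345ea81217b248d13ae46c19a644b15aa40b58a542a5))
 (.leaf (nat_lit 0x4a992e4d2a94e8cea13e6c6911e2ba78edcc2890e0be80fdeb670ddaaa58ad4b268cd8ae60bd6a6509d29a386cca2488d09e407ce96305ca8a182c492284c88e203c686101c2840608080))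
) (.leaf (nat_lit 0x3e80f5fb670d5bc289061ba78e5dcb9332553a3529478b2234f9b427284c9d2b05cbd6ac54ad4b464cd8a146892193668e1d3e790152e58c050e1840d1e3880916286112648a030808080))
) (.node (.leaf (nat_lit 0x49992e5509b3a7d3a546a468f222c3890a0c07ef5f366addc3974f1d8f1a407050e18414244c88a18245963054ba03c7ce993668e23429112c54ad4b268c59a74aa132d5eb98040604100))
 (.leaf (nat_lit 0x407cfdeb86cddac4850e0bc74edcd09d3e6c88d1e2d4a54e8cc952e4b05cbd6a84c9d2b464cd8ac54ad4a03c7ce982c5caa4448d09c346cc94244c88c142c4901c3c6880c1c2830808080))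
))) (.node (.node (.node (.node (.leaf (nat_lit 0x4d93168d09922a4f971e9ce951a93b86ddfb982d5ebc88e203a84d9f3460a16335e9d5b15a954b25c995131e1c59420206121c185111a144a04870c1f466cb9d4264a9e4468b040608001))
 (.leaf (nat_lit 0x4f9d426cb95324d3a5528c78d222bf7d01ebb74f1cc385120b76ce1aaf5cc16ab54b14b364d18a74ca129f3c80e9b3470ca344910972c60a8f1c4068b143049324508870c202840608080))
) (.leaf (nat_lit 0x305ab97a84a993b462c99ac52a95c4830a1bc72e9dc07af9fb86ad9bcc932a5d4a34a9c88b1a3d09b3a7982a58ba03a78f9c3268da442891932848887101828b182848f2038684040c080))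
) (.node (.leaf (nat_lit 0x305eb96ba78edcc78d2228c16284901c347b66ed5c2c54a55cfa13674b932a63e7b01f94224c9284a9d3153058b81040c21d3c7d0193670d060e1443266c5a54a5469c389061234491080))
 (.leaf (nat_lit 0x3c74edcc4850e0b86cddac07cfdecc952e4d4a54e8c88d1e2d09d3e6ac54ad4b464cd8a84c9d2b05cbd69c346cca4448d0982c5caa03c7ce94244c88c142c4901c3c6880c1c2830808080))
)) (.node (.node (.leaf (nat_lit 0x4c9b4a3d0931a9d48b2a7c8a33a5be76e20ba7f11ab68701cc26ef1ea32c650174474e1b3c84c1f345522568bd53150ad72d589d92960cd3140a28788223858c1a4839012189840600082))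
 (.leaf (nat_lit 0x4287120b66ee1aba76f1cbe7f01ed2a7528c68f222ca97324ce9f426b266d18a64ea12aa56b14ae5ec16a246910962e60a9a3670c9e3e80e8a163048e1e4069226508860e202830808080))
) (.node (.leaf (nat_lit 0xc122c53770d5b3168c99ca992e487101432e5ac17cf9d426bd7f01f0d1e40754a74a8bc72edd284c95382080c099346ce162e54c23428922c54a55c4830e1488f1a291265091d3c7d000))
 (.leaf (nat_lit 0x3f80f9ec3890a0bb78e9cb770d9acfa13a6d3a94a8cb992a4c7911a2af60b96b368c98ab58a94a7509929f4078ea3488909b3868c973058a8f2038693284888b182848710182830808080))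
))))

noncomputable def sH_S_t : BT :=
sH_S_t0

noncomputable def sH_S : ℕ → ℕ → ℕ := fun x i => Nat.land (Nat.shiftRight (BT.get sH_S_t x) (Nat.mul (nat_lit 7) i)) (nat_lit 127)

noncomputable def sH_defs : LT :=
(.node (.node (.node (.node (.node (.leaf [nat_lit 0])
 (.leaf [nat_lit 0,nat_lit 11,nat_lit 14,nat_lit 11,nat_lit 13,nat_lit 11])
) (.leaf [nat_lit 0,nat_lit 6,nat_lit 5,nat_lit 6,nat_lit 7,nat_lit 6,nat_lit 5,nat_lit 6,nat_lit 7,nat_lit 6])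
) (.node (.leaf [nat_lit 0])
 (.leaf [nat_lit 0,nat_lit 10,nat_lit 9,nat_lit 8,nat_lit 9,nat_lit 10])
)) (.node (.node (.node (.leaf [nat_lit 0])
 (.leaf [nat_lit 1,nat_lit 17])
) (.leaf [nat_lit 0,nat_lit 7,nat_lit 7,nat_lit 7,nat_lit 6,nat_lit 5,nat_lit 5,nat_lit 5])
) (.node (.leaf [nat_lit 0,nat_lit 1,nat_lit 3,nat_lit 1])
 (.leaf [nat_lit 1,nat_lit 13])
))) (.node (.node (.node (.node (.leaf [nat_lit 0])
 (.leaf [nat_lit 0,nat_lit 15,nat_lit 16])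
) (.leaf [nat_lit 0,nat_lit 5,nat_lit 5,nat_lit 5,nat_lit 5,nat_lit 5,nat_lit 6,nat_lit 7,nat_lit 7,nat_lit 7,nat_lit 7,nat_lit 7])
) (.node (.leaf [nat_lit 0,nat_lit 2,nat_lit 0,nat_lit 4,nat_lit 3,nat_lit 2,nat_lit 3,nat_lit 1,nat_lit 4,nat_lit 3,nat_lit 2])
 (.leaf [nat_lit 0,nat_lit 8,nat_lit 11,nat_lit 12])
)) (.node (.node (.leaf [nat_lit 0])
 (.leaf [nat_lit 0,nat_lit 9,nat_lit 10,nat_lit 8,nat_lit 9,nat_lit 8,nat_lit 10,nat_lit 9])
) (.node (.leaf [nat_lit 1,nat_lit 5])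
 (.leaf [nat_lit 0,nat_lit 13,nat_lit 11,nat_lit 14])
))))
noncomputable def sH_iota : ℕ → ℕ := getP (nat_lit 8) (nat_lit 255) (nat_lit 0x40302010007050a0c0b0f1211)
noncomputable def sH_inv : ℕ → ℕ := getP (nat_lit 8) (nat_lit 255) (nat_lit 0xc0b0a09080607050403020001)
noncomputable def sH_hws : LT := .leaf []

noncomputable def sH_T_t0 : BT :=
(.node (.node (.node (.node (.leaf (nat_lit 0x4f9d426cb95324d3a5528c78d222bf7d01ebb74f1cc385120b76ce1aaf5cc16ab54b14b364d18a74ca129f3c80e9b3470ca344910972c60a8f1c4068b143049324508870c202840608080))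
 (.leaf (nat_lit 0x4691163d09d3e6c9972a653a35294287120b76cd5c3c72e9dbd80fdf11245098e1a3c8080e1430b182849e3a7d021449119b3868c982e54b3262cda2d5cc17a750992ac56a55040604100))
) (.node (.leaf (nat_lit 0x4e9f426d2a7528ca97324c68f222ae5ec16b266d18aa56b14a64ea12be7f01ec287120ba76f1cb66ee1a9e3e80ea2469109a3670c962e60a8c142c4901c3c694244c8880c1c2820610080))
 (.leaf (nat_lit 0x202a6d1194878ba33460e963e84e3d86e1d3772fa23c6d05fc280eda871c50492161480c223c30d10289cf99463548f3a4c5a52e84a9b229b24ac15ad54cd42c5e998a768a57040004103))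
)) (.node (.node (.leaf (nat_lit 0x3f80f9ec3890a0bb78e9cb770d9acfa13a6d3a94a8cb992a4c7911a2af60b96b368c98ab58a94a7509929f4078ea3488909b3868c973058a8f2038693284888b182848710182830808080))
 (.leaf (nat_lit 0x20774885037085c0968893056c819c873864c46f89bca67872c66b82186f184482ed83b88e583284e980247f28a543ee87c49e685345ea81217b248d13ae46c19a644b15aa40b58a542a5))
) (.leaf (nat_lit 0x305eb96ba78edcc78d2228c16284901c347b66ed5c2c54a55cfa13674b932a63e7b01f94224c9284a9d3153058b81040c21d3c7d0193670d060e1443266c5a54a5469c389061234491080))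
)) (.node (.node (.node (.leaf (nat_lit 0x4a992e4d2a94e8cea13e6c6911e2ba78edcc2890e0be80fdeb670ddaaa58ad4b268cd8ae60bd6a6509d29a386cca2488d09e407ce96305ca8a182c492284c88e203c686101c2840608080))
 (.leaf (nat_lit 0x4d93168d09922a4f971e9ce951a93b86ddfb982d5ebc88e203a84d9f3460a16335e9d5b15a954b25c995131e1c59420206121c185111a144a04870c1f466cb9d4264a9e4468b040608001))
) (.leaf (nat_lit 0x3e80f5fb670d5bc289061ba78e5dcb9332553a3529478b2234f9b427284c9d2b05cbd6ac54ad4b464cd8a146892193668e1d3e790152e58c050e1840d1e3880916286112648a030808080))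
) (.node (.node (.leaf (nat_lit 0x4287120b66ee1aba76f1cbe7f01ed2a7528c68f222ca97324ce9f426b266d18a64ea12aa56b14ae5ec16a246910962e60a9a3670c9e3e80e8a163048e1e4069226508860e202830808080))
 (.leaf (nat_lit 0x4c9b4a3d0931a9d48b2a7c8a33a5be76e20ba7f11ab68701cc26ef1ea32c650174474e1b3c84c1f345522568bd53150ad72d589d92960cd3140a28788223858c1a4839012189840600082))
) (.leaf (nat_lit 0xc122c53770d5b3168c99ca992e487101432e5ac17cf9d426bd7f01f0d1e40754a74a8bc72edd284c95382080c099346ce162e54c23428922c54a55c4830e1488f1a291265091d3c7d000))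
)))

noncomputable def sH_T_t : BT :=
sH_T_t0

noncomputable def sH_T : ℕ → ℕ → ℕ := fun x i => Nat.land (Nat.shiftRight (BT.get sH_T_t x) (Nat.mul (nat_lit 7) i)) (nat_lit 127)

noncomputable def sH_E_t0 : BT :=
(.node (.node (.node (.leaf (nat_lit 0x40a80f0220350c81901601c0781702a0350181903185508a0101e0250380f01a05c0480d02a82c048094098240180b01582c0380703181c09812c2600c0160cc1d0530b804c1d83b0660cc1a00c0b80302e0040580f00d8540a61901a00c0881901a004088130218440a81541d8530441882d04900))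
 (.leaf (nat_lit 0x1800000000010180000000180800000000800000000000000000000000000000000000000000000000000000000000))
) (.node (.leaf (nat_lit 0x20580900e80d0360301280304804c0202e00a0b4148000000000000000))
 (.leaf (nat_lit 0x2014004000000000000000000))
)) (.node (.node (.leaf (nat_lit 0x305604c0103a0680301180c056030018040660ec0e018000000000000000000000000000000000000000000040780d01880000))
 (.leaf (nat_lit 0x20220000000000))
) (.leaf (nat_lit 0x20460440000000))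
))

noncomputable def sH_E_t : BT :=
sH_E_t0

noncomputable def sH_E : ℕ → ℕ → ℕ := fun x i => Nat.land (Nat.shiftRight (BT.get sH_E_t x) (Nat.mul (nat_lit 11) i)) (nat_lit 2047)

theorem sH_slp0 : allLt (nat_lit 14) (fun i => force (Nat.add (nat_lit 5) i) (slpOK sH_S sH_defs (nat_lit 85))) = true := by decide +kernel

theorem sH_ren : allLt (nat_lit 13) (fun x => force (sH_iota x) fun y => band (blt y (nat_lit 19)) (allRange (nat_lit 0) (nat_lit 85) fun i => Nat.beq (sH_S y i) (sH_T x i))) = true := by decide +kernel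

theorem sH_L6_o : band (allRange (nat_lit 0) (nat_lit 85) (orbOK sH_T (nat_lit 2) (sH_E (nat_lit 6)) (Nat.beq (nat_lit 6)))) (band (Nat.ble (nat_lit 3) (count2 (nat_lit 85) fun p => Nat.ble 256 (sH_E (nat_lit 6) p))) (allLt (nat_lit 0) (fun x => Nat.beq (sH_T x (nat_lit 6)) (nat_lit 6)))) = true := by decide +kernel

theorem sH_L5_o : band (allRange (nat_lit 0) (nat_lit 85) (orbOK sH_T (nat_lit 3) (sH_E (nat_lit 5)) (Nat.beq (nat_lit 3)))) (band (Nat.ble (nat_lit 2) (count2 (nat_lit 85) fun p => Nat.ble 256 (sH_E (nat_lit 5) p))) (allLt (nat_lit 2) (fun x => Nat.beq (sH_T x (nat_lit 3)) (nat_lit 3)))) = true := by decide +kernel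

theorem sH_L4_o : band (allRange (nat_lit 0) (nat_lit 85) (orbOK sH_T (nat_lit 4) (sH_E (nat_lit 4)) (Nat.beq (nat_lit 21)))) (band (Nat.ble (nat_lit 4) (count2 (nat_lit 85) fun p => Nat.ble 256 (sH_E (nat_lit 4) p))) (allLt (nat_lit 3) (fun x => Nat.beq (sH_T x (nat_lit 21)) (nat_lit 21)))) = true := by decide +kernel

theorem sH_L3_o : band (allRange (nat_lit 0) (nat_lit 85) (orbOK sH_T (nat_lit 5) (sH_E (nat_lit 3)) (Nat.beq (nat_lit 2)))) (band (Nat.ble (nat_lit 3) (count2 (nat_lit 85) fun p => Nat.ble 256 (sH_E (nat_lit 3) p))) (allLt (nat_lit 4) (fun x => Nat.beq (sH_T x (nat_lit 2)) (nat_lit 2)))) = true := by decide +kernel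

theorem sH_L2_o : band (allRange (nat_lit 0) (nat_lit 85) (orbOK sH_T (nat_lit 6) (sH_E (nat_lit 2)) (Nat.beq (nat_lit 5)))) (band (Nat.ble (nat_lit 16) (count2 (nat_lit 85) fun p => Nat.ble 256 (sH_E (nat_lit 2) p))) (allLt (nat_lit 5) (fun x => Nat.beq (sH_T x (nat_lit 5)) (nat_lit 5)))) = true := by decide +kernel

theorem sH_L1_o : band (allRange (nat_lit 0) (nat_lit 85) (orbOK sH_T (nat_lit 8) (sH_E (nat_lit 1)) (Nat.beq (nat_lit 1)))) (band (Nat.ble (nat_lit 20) (count2 (nat_lit 85) fun p => Nat.ble 256 (sH_E (nat_lit 1) p))) (allLt (nat_lit 6) (fun x => Nat.beq (sH_T x (nat_lit 1)) (nat_lit 1)))) = true := by decide +kernel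

theorem sH_L0_o : band (allRange (nat_lit 0) (nat_lit 85) (orbOK sH_T (nat_lit 13) (sH_E (nat_lit 0)) (Nat.beq (nat_lit 0)))) (band (Nat.ble (nat_lit 85) (count2 (nat_lit 85) fun p => Nat.ble 256 (sH_E (nat_lit 0) p))) (allLt (nat_lit 8) (fun x => Nat.beq (sH_T x (nat_lit 0)) (nat_lit 0)))) = true := by decide +kernel

/-- The letters: a strong generating set, deepest stabiliser first. -/
noncomputable def sH_g {G : Type*} [Group G] (a : ℕ → G) : ℕ → G := fun x => slp a 5 sH_defs (sH_iota x)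

theorem sH_tabs {G α : Type*} [Group G] [MulAction G α] {e : ℕ → α} {a : ℕ → G} (h0 : Tabs e 85 sH_S a 5) : Tabs e 85 sH_T (sH_g a) 13 :=
  Tabs.rename (ι := sH_iota) (g := slp a 5 sH_defs) ((Tabs.slp_base sH_defs h0).slp_add (by decide) _ sH_slp0) sH_ren

theorem sH_gen {G : Type*} [Group G] (a : ℕ → G) : genLt (sH_g a) 13 = genLt a 5 :=
  genLt_slp_eq a sH_defs (back := getP 8 255 (nat_lit 0xc0b0a0908)) (by decide +kernel)

theorem sH_low6 {G α : Type*} [Group G] [MulAction G α] {e : ℕ → α} {a : ℕ → G} (he : Set.InjOn e (Set.Iio 85)) (h0 : Tabs e 85 sH_S a 5) :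
    LowLevel (genLt (sH_g a) 2) (genLt (sH_g a) 0) (e 6) 3 :=
  Tabs.lowLevel (sH_tabs h0) he (by decide) (by decide) (by decide) sH_L6_o

theorem sH_ge6 {G α : Type*} [Group G] [MulAction G α] {e : ℕ → α} {a : ℕ → G} (he : Set.InjOn e (Set.Iio 85)) (h0 : Tabs e 85 sH_S a 5) :
    Finite (genLt (sH_g a) 2) → 3 ≤ Nat.card (genLt (sH_g a) 2) := fun hK =>
  (sH_low6 he h0).card hK (one_le_card_fin _)

theorem sH_fix6 {G α : Type*} [Group G] [MulAction G α] {e : ℕ → α} {a : ℕ → G} (he : Set.InjOn e (Set.Iio 85)) (h0 : Tabs e 85 sH_S a 5) :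
    ∀ X : Subgroup G, Finite X → (genLt (sH_g a) 2) ≤ X → 3 * Nat.card (fixB e X [6]) ≤ Nat.card X :=
  (sH_low6 he h0).card_fix (card_fix_nil _ _)

theorem sH_low5 {G α : Type*} [Group G] [MulAction G α] {e : ℕ → α} {a : ℕ → G} (he : Set.InjOn e (Set.Iio 85)) (h0 : Tabs e 85 sH_S a 5) :
    LowLevel (genLt (sH_g a) 3) (genLt (sH_g a) 2) (e 3) 2 :=
  Tabs.lowLevel (sH_tabs h0) he (by decide) (by decide) (by decide) sH_L5_o

theorem sH_ge5 {G α : Type*} [Group G] [MulAction G α] {e : ℕ → α} {a : ℕ → G} (he : Set.InjOn e (Set.Iio 85)) (h0 : Tabs e 85 sH_S a 5) :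
    Finite (genLt (sH_g a) 3) → 6 ≤ Nat.card (genLt (sH_g a) 3) := fun hK =>
  (sH_low5 he h0).card hK (sH_ge6 he h0)

theorem sH_fix5 {G α : Type*} [Group G] [MulAction G α] {e : ℕ → α} {a : ℕ → G} (he : Set.InjOn e (Set.Iio 85)) (h0 : Tabs e 85 sH_S a 5) :
    ∀ X : Subgroup G, Finite X → (genLt (sH_g a) 3) ≤ X → 6 * Nat.card (fixB e X [3, 6]) ≤ Nat.card X :=
  (sH_low5 he h0).card_fix (sH_fix6 he h0)

theorem sH_low4 {G α : Type*} [Group G] [MulAction G α] {e : ℕ → α} {a : ℕ → G} (he : Set.InjOn e (Set.Iio 85)) (h0 : Tabs e 85 sH_S a 5) :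
    LowLevel (genLt (sH_g a) 4) (genLt (sH_g a) 3) (e 21) 4 :=
  Tabs.lowLevel (sH_tabs h0) he (by decide) (by decide) (by decide) sH_L4_o

theorem sH_ge4 {G α : Type*} [Group G] [MulAction G α] {e : ℕ → α} {a : ℕ → G} (he : Set.InjOn e (Set.Iio 85)) (h0 : Tabs e 85 sH_S a 5) :
    Finite (genLt (sH_g a) 4) → 24 ≤ Nat.card (genLt (sH_g a) 4) := fun hK =>
  (sH_low4 he h0).card hK (sH_ge5 he h0)

theorem sH_fix4 {G α : Type*} [Group G] [MulAction G α] {e : ℕ → α} {a : ℕ → G} (he : Set.InjOn e (Set.Iio 85)) (h0 : Tabs e 85 sH_S a 5) :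
    ∀ X : Subgroup G, Finite X → (genLt (sH_g a) 4) ≤ X → 24 * Nat.card (fixB e X [21, 3, 6]) ≤ Nat.card X :=
  (sH_low4 he h0).card_fix (sH_fix5 he h0)

theorem sH_low3 {G α : Type*} [Group G] [MulAction G α] {e : ℕ → α} {a : ℕ → G} (he : Set.InjOn e (Set.Iio 85)) (h0 : Tabs e 85 sH_S a 5) :
    LowLevel (genLt (sH_g a) 5) (genLt (sH_g a) 4) (e 2) 3 :=
  Tabs.lowLevel (sH_tabs h0) he (by decide) (by decide) (by decide) sH_L3_o

theorem sH_ge3 {G α : Type*} [Group G] [MulAction G α] {e : ℕ → α} {a : ℕ → G} (he : Set.InjOn e (Set.Iio 85)) (h0 : Tabs e 85 sH_S a 5) :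
    Finite (genLt (sH_g a) 5) → 72 ≤ Nat.card (genLt (sH_g a) 5) := fun hK =>
  (sH_low3 he h0).card hK (sH_ge4 he h0)

theorem sH_fix3 {G α : Type*} [Group G] [MulAction G α] {e : ℕ → α} {a : ℕ → G} (he : Set.InjOn e (Set.Iio 85)) (h0 : Tabs e 85 sH_S a 5) :
    ∀ X : Subgroup G, Finite X → (genLt (sH_g a) 5) ≤ X → 72 * Nat.card (fixB e X [2, 21, 3, 6]) ≤ Nat.card X :=
  (sH_low3 he h0).card_fix (sH_fix4 he h0)

theorem sH_low2 {G α : Type*} [Group G] [MulAction G α] {e : ℕ → α} {a : ℕ → G} (he : Set.InjOn e (Set.Iio 85)) (h0 : Tabs e 85 sH_S a 5) :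
    LowLevel (genLt (sH_g a) 6) (genLt (sH_g a) 5) (e 5) 16 :=
  Tabs.lowLevel (sH_tabs h0) he (by decide) (by decide) (by decide) sH_L2_o

theorem sH_ge2 {G α : Type*} [Group G] [MulAction G α] {e : ℕ → α} {a : ℕ → G} (he : Set.InjOn e (Set.Iio 85)) (h0 : Tabs e 85 sH_S a 5) :
    Finite (genLt (sH_g a) 6) → 1152 ≤ Nat.card (genLt (sH_g a) 6) := fun hK =>
  (sH_low2 he h0).card hK (sH_ge3 he h0)

theorem sH_fix2 {G α : Type*} [Group G] [MulAction G α] {e : ℕ → α} {a : ℕ → G} (he : Set.InjOn e (Set.Iio 85)) (h0 : Tabs e 85 sH_S a 5) :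
    ∀ X : Subgroup G, Finite X → (genLt (sH_g a) 6) ≤ X → 1152 * Nat.card (fixB e X [5, 2, 21, 3, 6]) ≤ Nat.card X :=
  (sH_low2 he h0).card_fix (sH_fix3 he h0)

theorem sH_low1 {G α : Type*} [Group G] [MulAction G α] {e : ℕ → α} {a : ℕ → G} (he : Set.InjOn e (Set.Iio 85)) (h0 : Tabs e 85 sH_S a 5) :
    LowLevel (genLt (sH_g a) 8) (genLt (sH_g a) 6) (e 1) 20 :=
  Tabs.lowLevel (sH_tabs h0) he (by decide) (by decide) (by decide) sH_L1_o

theorem sH_ge1 {G α : Type*} [Group G] [MulAction G α] {e : ℕ → α} {a : ℕ → G} (he : Set.InjOn e (Set.Iio 85)) (h0 : Tabs e 85 sH_S a 5) :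
    Finite (genLt (sH_g a) 8) → 23040 ≤ Nat.card (genLt (sH_g a) 8) := fun hK =>
  (sH_low1 he h0).card hK (sH_ge2 he h0)

theorem sH_fix1 {G α : Type*} [Group G] [MulAction G α] {e : ℕ → α} {a : ℕ → G} (he : Set.InjOn e (Set.Iio 85)) (h0 : Tabs e 85 sH_S a 5) :
    ∀ X : Subgroup G, Finite X → (genLt (sH_g a) 8) ≤ X → 23040 * Nat.card (fixB e X [1, 5, 2, 21, 3, 6]) ≤ Nat.card X :=
  (sH_low1 he h0).card_fix (sH_fix2 he h0)

theorem sH_low0 {G α : Type*} [Group G] [MulAction G α] {e : ℕ → α} {a : ℕ → G} (he : Set.InjOn e (Set.Iio 85)) (h0 : Tabs e 85 sH_S a 5) :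
    LowLevel (genLt (sH_g a) 13) (genLt (sH_g a) 8) (e 0) 85 :=
  Tabs.lowLevel (sH_tabs h0) he (by decide) (by decide) (by decide) sH_L0_o

theorem sH_ge0 {G α : Type*} [Group G] [MulAction G α] {e : ℕ → α} {a : ℕ → G} (he : Set.InjOn e (Set.Iio 85)) (h0 : Tabs e 85 sH_S a 5) :
    Finite (genLt (sH_g a) 13) → 1958400 ≤ Nat.card (genLt (sH_g a) 13) := fun hK =>
  (sH_low0 he h0).card hK (sH_ge1 he h0)

theorem sH_fix0 {G α : Type*} [Group G] [MulAction G α] {e : ℕ → α} {a : ℕ → G} (he : Set.InjOn e (Set.Iio 85)) (h0 : Tabs e 85 sH_S a 5) :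
    ∀ X : Subgroup G, Finite X → (genLt (sH_g a) 13) ≤ X → 1958400 * Nat.card (fixB e X [0, 1, 5, 2, 21, 3, 6]) ≤ Nat.card X :=
  (sH_low0 he h0).card_fix (sH_fix1 he h0)

theorem sH_ub0 {G α : Type*} [Group G] [MulAction G α] {e : ℕ → α} {a : ℕ → G} (he : Set.InjOn e (Set.Iio 85)) (h0 : Tabs e 85 sH_S a 5) (hub : Nat.card (genLt a 5) ≠ 0 ∧ Nat.card (genLt a 5) ≤ 1958400) :
    Nat.card (genLt (sH_g a) 13) ≠ 0 ∧ Nat.card (genLt (sH_g a) 13) ≤ 1958400 := by rw [sH_gen]; exact hub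

theorem sH_level0 {G α : Type*} [Group G] [MulAction G α] {e : ℕ → α} {a : ℕ → G} (he : Set.InjOn e (Set.Iio 85)) (h0 : Tabs e 85 sH_S a 5) (hub : Nat.card (genLt a 5) ≠ 0 ∧ Nat.card (genLt a 5) ≤ 1958400) :
    Level (genLt (sH_g a) 13) (genLt (sH_g a) 8) (e 0) 85 :=
  ((sH_low0 he h0).level (c := 23040) (sH_ub0 he h0 hub) (sH_ge1 he h0)).1

theorem sH_ub1 {G α : Type*} [Group G] [MulAction G α] {e : ℕ → α} {a : ℕ → G} (he : Set.InjOn e (Set.Iio 85)) (h0 : Tabs e 85 sH_S a 5) (hub : Nat.card (genLt a 5) ≠ 0 ∧ Nat.card (genLt a 5) ≤ 1958400) :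
    Nat.card (genLt (sH_g a) 8) ≠ 0 ∧ Nat.card (genLt (sH_g a) 8) ≤ 23040 :=
  ((sH_low0 he h0).level (c := 23040) (sH_ub0 he h0 hub) (sH_ge1 he h0)).2

theorem sH_level1 {G α : Type*} [Group G] [MulAction G α] {e : ℕ → α} {a : ℕ → G} (he : Set.InjOn e (Set.Iio 85)) (h0 : Tabs e 85 sH_S a 5) (hub : Nat.card (genLt a 5) ≠ 0 ∧ Nat.card (genLt a 5) ≤ 1958400) :
    Level (genLt (sH_g a) 8) (genLt (sH_g a) 6) (e 1) 20 :=
  ((sH_low1 he h0).level (c := 1152) (sH_ub1 he h0 hub) (sH_ge2 he h0)).1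

theorem sH_ub2 {G α : Type*} [Group G] [MulAction G α] {e : ℕ → α} {a : ℕ → G} (he : Set.InjOn e (Set.Iio 85)) (h0 : Tabs e 85 sH_S a 5) (hub : Nat.card (genLt a 5) ≠ 0 ∧ Nat.card (genLt a 5) ≤ 1958400) :
    Nat.card (genLt (sH_g a) 6) ≠ 0 ∧ Nat.card (genLt (sH_g a) 6) ≤ 1152 :=
  ((sH_low1 he h0).level (c := 1152) (sH_ub1 he h0 hub) (sH_ge2 he h0)).2

theorem sH_level2 {G α : Type*} [Group G] [MulAction G α] {e : ℕ → α} {a : ℕ → G} (he : Set.InjOn e (Set.Iio 85)) (h0 : Tabs e 85 sH_S a 5) (hub : Nat.card (genLt a 5) ≠ 0 ∧ Nat.card (genLt a 5) ≤ 1958400) :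
    Level (genLt (sH_g a) 6) (genLt (sH_g a) 5) (e 5) 16 :=
  ((sH_low2 he h0).level (c := 72) (sH_ub2 he h0 hub) (sH_ge3 he h0)).1

theorem sH_ub3 {G α : Type*} [Group G] [MulAction G α] {e : ℕ → α} {a : ℕ → G} (he : Set.InjOn e (Set.Iio 85)) (h0 : Tabs e 85 sH_S a 5) (hub : Nat.card (genLt a 5) ≠ 0 ∧ Nat.card (genLt a 5) ≤ 1958400) :
    Nat.card (genLt (sH_g a) 5) ≠ 0 ∧ Nat.card (genLt (sH_g a) 5) ≤ 72 :=
  ((sH_low2 he h0).level (c := 72) (sH_ub2 he h0 hub) (sH_ge3 he h0)).2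

theorem sH_level3 {G α : Type*} [Group G] [MulAction G α] {e : ℕ → α} {a : ℕ → G} (he : Set.InjOn e (Set.Iio 85)) (h0 : Tabs e 85 sH_S a 5) (hub : Nat.card (genLt a 5) ≠ 0 ∧ Nat.card (genLt a 5) ≤ 1958400) :
    Level (genLt (sH_g a) 5) (genLt (sH_g a) 4) (e 2) 3 :=
  ((sH_low3 he h0).level (c := 24) (sH_ub3 he h0 hub) (sH_ge4 he h0)).1

theorem sH_ub4 {G α : Type*} [Group G] [MulAction G α] {e : ℕ → α} {a : ℕ → G} (he : Set.InjOn e (Set.Iio 85)) (h0 : Tabs e 85 sH_S a 5) (hub : Nat.card (genLt a 5) ≠ 0 ∧ Nat.card (genLt a 5) ≤ 1958400) :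
    Nat.card (genLt (sH_g a) 4) ≠ 0 ∧ Nat.card (genLt (sH_g a) 4) ≤ 24 :=
  ((sH_low3 he h0).level (c := 24) (sH_ub3 he h0 hub) (sH_ge4 he h0)).2

theorem sH_level4 {G α : Type*} [Group G] [MulAction G α] {e : ℕ → α} {a : ℕ → G} (he : Set.InjOn e (Set.Iio 85)) (h0 : Tabs e 85 sH_S a 5) (hub : Nat.card (genLt a 5) ≠ 0 ∧ Nat.card (genLt a 5) ≤ 1958400) :
    Level (genLt (sH_g a) 4) (genLt (sH_g a) 3) (e 21) 4 :=
  ((sH_low4 he h0).level (c := 6) (sH_ub4 he h0 hub) (sH_ge5 he h0)).1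

theorem sH_ub5 {G α : Type*} [Group G] [MulAction G α] {e : ℕ → α} {a : ℕ → G} (he : Set.InjOn e (Set.Iio 85)) (h0 : Tabs e 85 sH_S a 5) (hub : Nat.card (genLt a 5) ≠ 0 ∧ Nat.card (genLt a 5) ≤ 1958400) :
    Nat.card (genLt (sH_g a) 3) ≠ 0 ∧ Nat.card (genLt (sH_g a) 3) ≤ 6 :=
  ((sH_low4 he h0).level (c := 6) (sH_ub4 he h0 hub) (sH_ge5 he h0)).2

theorem sH_level5 {G α : Type*} [Group G] [MulAction G α] {e : ℕ → α} {a : ℕ → G} (he : Set.InjOn e (Set.Iio 85)) (h0 : Tabs e 85 sH_S a 5) (hub : Nat.card (genLt a 5) ≠ 0 ∧ Nat.card (genLt a 5) ≤ 1958400) :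
    Level (genLt (sH_g a) 3) (genLt (sH_g a) 2) (e 3) 2 :=
  ((sH_low5 he h0).level (c := 3) (sH_ub5 he h0 hub) (sH_ge6 he h0)).1

theorem sH_ub6 {G α : Type*} [Group G] [MulAction G α] {e : ℕ → α} {a : ℕ → G} (he : Set.InjOn e (Set.Iio 85)) (h0 : Tabs e 85 sH_S a 5) (hub : Nat.card (genLt a 5) ≠ 0 ∧ Nat.card (genLt a 5) ≤ 1958400) :
    Nat.card (genLt (sH_g a) 2) ≠ 0 ∧ Nat.card (genLt (sH_g a) 2) ≤ 3 :=
  ((sH_low5 he h0).level (c := 3) (sH_ub5 he h0 hub) (sH_ge6 he h0)).2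

theorem sH_level6 {G α : Type*} [Group G] [MulAction G α] {e : ℕ → α} {a : ℕ → G} (he : Set.InjOn e (Set.Iio 85)) (h0 : Tabs e 85 sH_S a 5) (hub : Nat.card (genLt a 5) ≠ 0 ∧ Nat.card (genLt a 5) ≤ 1958400) :
    Level (genLt (sH_g a) 2) (genLt (sH_g a) 0) (e 6) 3 :=
  ((sH_low6 he h0).level (c := 1) (sH_ub6 he h0 hub) (one_le_card_fin _)).1

theorem sH_card6 {G α : Type*} [Group G] [MulAction G α] {e : ℕ → α} {a : ℕ → G} (he : Set.InjOn e (Set.Iio 85)) (h0 : Tabs e 85 sH_S a 5) (hub : Nat.card (genLt a 5) ≠ 0 ∧ Nat.card (genLt a 5) ≤ 1958400) :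
    Nat.card (genLt (sH_g a) 2) = 3 :=
  (sH_level6 he h0 hub).card (card_genLt_zero _)

theorem sH_base6 {G α : Type*} [Group G] [MulAction G α] {e : ℕ → α} {a : ℕ → G} (he : Set.InjOn e (Set.Iio 85)) (h0 : Tabs e 85 sH_S a 5) (hub : Nat.card (genLt a 5) ≠ 0 ∧ Nat.card (genLt a 5) ≤ 1958400) :
    IsBase e (genLt (sH_g a) 2) [6] :=
  (sH_level6 he h0 hub).base (isBase_genLt_zero _ _)

theorem sH_card5 {G α : Type*} [Group G] [MulAction G α] {e : ℕ → α} {a : ℕ → G} (he : Set.InjOn e (Set.Iio 85)) (h0 : Tabs e 85 sH_S a 5) (hub : Nat.card (genLt a 5) ≠ 0 ∧ Nat.card (genLt a 5) ≤ 1958400) :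
    Nat.card (genLt (sH_g a) 3) = 6 :=
  (sH_level5 he h0 hub).card (sH_card6 he h0 hub)

theorem sH_base5 {G α : Type*} [Group G] [MulAction G α] {e : ℕ → α} {a : ℕ → G} (he : Set.InjOn e (Set.Iio 85)) (h0 : Tabs e 85 sH_S a 5) (hub : Nat.card (genLt a 5) ≠ 0 ∧ Nat.card (genLt a 5) ≤ 1958400) :
    IsBase e (genLt (sH_g a) 3) [3, 6] :=
  (sH_level5 he h0 hub).base (sH_base6 he h0 hub)

theorem sH_card4 {G α : Type*} [Group G] [MulAction G α] {e : ℕ → α} {a : ℕ → G} (he : Set.InjOn e (Set.Iio 85)) (h0 : Tabs e 85 sH_S a 5) (hub : Nat.card (genLt a 5) ≠ 0 ∧ Nat.card (genLt a 5) ≤ 1958400) :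
    Nat.card (genLt (sH_g a) 4) = 24 :=
  (sH_level4 he h0 hub).card (sH_card5 he h0 hub)

theorem sH_base4 {G α : Type*} [Group G] [MulAction G α] {e : ℕ → α} {a : ℕ → G} (he : Set.InjOn e (Set.Iio 85)) (h0 : Tabs e 85 sH_S a 5) (hub : Nat.card (genLt a 5) ≠ 0 ∧ Nat.card (genLt a 5) ≤ 1958400) :
    IsBase e (genLt (sH_g a) 4) [21, 3, 6] :=
  (sH_level4 he h0 hub).base (sH_base5 he h0 hub)

theorem sH_card3 {G α : Type*} [Group G] [MulAction G α] {e : ℕ → α} {a : ℕ → G} (he : Set.InjOn e (Set.Iio 85)) (h0 : Tabs e 85 sH_S a 5) (hub : Nat.card (genLt a 5) ≠ 0 ∧ Nat.card (genLt a 5) ≤ 1958400) :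
    Nat.card (genLt (sH_g a) 5) = 72 :=
  (sH_level3 he h0 hub).card (sH_card4 he h0 hub)

theorem sH_base3 {G α : Type*} [Group G] [MulAction G α] {e : ℕ → α} {a : ℕ → G} (he : Set.InjOn e (Set.Iio 85)) (h0 : Tabs e 85 sH_S a 5) (hub : Nat.card (genLt a 5) ≠ 0 ∧ Nat.card (genLt a 5) ≤ 1958400) :
    IsBase e (genLt (sH_g a) 5) [2, 21, 3, 6] :=
  (sH_level3 he h0 hub).base (sH_base4 he h0 hub)

theorem sH_card2 {G α : Type*} [Group G] [MulAction G α] {e : ℕ → α} {a : ℕ → G} (he : Set.InjOn e (Set.Iio 85)) (h0 : Tabs e 85 sH_S a 5) (hub : Nat.card (genLt a 5) ≠ 0 ∧ Nat.card (genLt a 5) ≤ 1958400) :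
    Nat.card (genLt (sH_g a) 6) = 1152 :=
  (sH_level2 he h0 hub).card (sH_card3 he h0 hub)

theorem sH_base2 {G α : Type*} [Group G] [MulAction G α] {e : ℕ → α} {a : ℕ → G} (he : Set.InjOn e (Set.Iio 85)) (h0 : Tabs e 85 sH_S a 5) (hub : Nat.card (genLt a 5) ≠ 0 ∧ Nat.card (genLt a 5) ≤ 1958400) :
    IsBase e (genLt (sH_g a) 6) [5, 2, 21, 3, 6] :=
  (sH_level2 he h0 hub).base (sH_base3 he h0 hub)

theorem sH_card1 {G α : Type*} [Group G] [MulAction G α] {e : ℕ → α} {a : ℕ → G} (he : Set.InjOn e (Set.Iio 85)) (h0 : Tabs e 85 sH_S a 5) (hub : Nat.card (genLt a 5) ≠ 0 ∧ Nat.card (genLt a 5) ≤ 1958400) :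
    Nat.card (genLt (sH_g a) 8) = 23040 :=
  (sH_level1 he h0 hub).card (sH_card2 he h0 hub)

theorem sH_base1 {G α : Type*} [Group G] [MulAction G α] {e : ℕ → α} {a : ℕ → G} (he : Set.InjOn e (Set.Iio 85)) (h0 : Tabs e 85 sH_S a 5) (hub : Nat.card (genLt a 5) ≠ 0 ∧ Nat.card (genLt a 5) ≤ 1958400) :
    IsBase e (genLt (sH_g a) 8) [1, 5, 2, 21, 3, 6] :=
  (sH_level1 he h0 hub).base (sH_base2 he h0 hub)

theorem sH_card0 {G α : Type*} [Group G] [MulAction G α] {e : ℕ → α} {a : ℕ → G} (he : Set.InjOn e (Set.Iio 85)) (h0 : Tabs e 85 sH_S a 5) (hub : Nat.card (genLt a 5) ≠ 0 ∧ Nat.card (genLt a 5) ≤ 1958400) :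
    Nat.card (genLt (sH_g a) 13) = 1958400 :=
  (sH_level0 he h0 hub).card (sH_card1 he h0 hub)

theorem sH_base0 {G α : Type*} [Group G] [MulAction G α] {e : ℕ → α} {a : ℕ → G} (he : Set.InjOn e (Set.Iio 85)) (h0 : Tabs e 85 sH_S a 5) (hub : Nat.card (genLt a 5) ≠ 0 ∧ Nat.card (genLt a 5) ≤ 1958400) :
    IsBase e (genLt (sH_g a) 13) [0, 1, 5, 2, 21, 3, 6] :=
  (sH_level0 he h0 hub).base (sH_base1 he h0 hub)

theorem sH_hinv {G α : Type*} [Group G] [MulAction G α] {e : ℕ → α} {a : ℕ → G} (he : Set.InjOn e (Set.Iio 85)) (h0 : Tabs e 85 sH_S a 5) (hub : Nat.card (genLt a 5) ≠ 0 ∧ Nat.card (genLt a 5) ≤ 1958400) : ∀ x < 13, sH_g a x * sH_g a (sH_inv x) = 1 :=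
  (sH_tabs h0).hinv_of_base (sH_base0 he h0 hub) (by decide +kernel)

theorem sH_card {G α : Type*} [Group G] [MulAction G α] {e : ℕ → α} {a : ℕ → G} (he : Set.InjOn e (Set.Iio 85)) (h0 : Tabs e 85 sH_S a 5) (hub : Nat.card (genLt a 5) ≠ 0 ∧ Nat.card (genLt a 5) ≤ 1958400) :
    Nat.card (genLt a 5) = 1958400 := by
  rw [← sH_gen]; exact sH_card0 he h0 hub

end Cfsg.Agent.Spor.MHe
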