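import Mathlib
import Cfsg.Agent.Spor.Comp.Pres

/-! Generated by tools/pg: stabiliser chain sN -/

set_option autoImplicit false
set_option maxRecDepth 100000
set_option linter.unusedVariables false
set_option exponentiation.threshold 100000

namespace Cfsg.Agent.Spor.MHe

open Cfsg.Agent.Spor

noncomputable def sN_S_t0 : BT :=
(.node (.node (.node (.node (.node (.leaf (nat_lit 0x2c4cc57a854b59b45ca53b064955be88ddcc280edab678fe0ba710de9536811192e90f1d4660d213e70b539b2a44fa31a64b8b4a847933aa0a2634412161480e0e24a061e446040400083))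
 (.leaf (nat_lit 0x2a58ad4ae60bd6a6509d2b268cd8ca992e4cea13e6c6911e2d2a94e8ba78edcbe80fdeb670ddac2890e09a386cc9e407ce96305caa2488d08c162849426488901e386880e182830410080))
) (.leaf (nat_lit 0x3d7cfe03974ede41850e2356cddc3368c5927509532f60b572b58a55488f1a2d4a74a8cc972a4d09f3a69a3270d9e3a80f962a60ba2429118b12286070a184132248a0f1a38802080c080))
) (.node (.node (.leaf (nat_lit 0x4d9f4273462cd93b78e5d13245088f20347305eb96c9992a5c3830a2376ce1aa84c953870a184458d1e4224291181061011a386cc9e3e7500c14245d4a74a8bd80f9fab52a96173054b00))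
 (.leaf (nat_lit 0x509f3a6d4a74a8c88f1a2cc972a4c07ef9ec4870a0b86ed9abc76e9cb05eb96b466c98a84e992ac56a94a03e78ea446890982e58a9c3668c9426488901e3868c16284880e182840608080))
) (.leaf (nat_lit 0x52a94e8ca992e4c6911e2cea13e6c2890e0ba78edcb670ddabe80fdeb268cd8aa58ad4a6509d2ae60bd6a2488d09a386cc96305ca9e407ce8a182c492284c88e203c686101c2840608080))
)) (.node (.node (.node (.leaf (nat_lit 0x154868f99405919d3888ba13078dc36d01cbf7511abb7ce20b784f1ecc9b1e948a32e7548b3e550934e32e56c54324eb562666a582a5e95a09264030d0e309051e505111620704000c082))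
 (.leaf (nat_lit 0x376ce1abf7d01ec385120bb74f1ca74ca12af5cc16b364d18ab54b14c78d222cf9d426d3a5528cb95324972c60a9f3c80ea3449109b3470c901e3868c162849426488880e18282080c080))
) (.leaf (nat_lit 0x305eb96a84e992ac56a94b466c98c9952e651a54ea4d9d3e8458d1e443890613b78e5d3770d5b3f80f5f162a60b9e3a80fa2429119a3270d8918285851018391284898d20387830410080))
) (.node (.leaf (nat_lit 0x101e386d2a746a3b72e9e254c9d43570d9b8b122864b992653268cd8d09d367c07ef9e8510183b05abd72242911952e60b1b3470c830804146911e2c38906114224c92958a959e3e75000))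
 (.leaf (nat_lit 0x53a5528c78d222cf9d426cb95324c385120b76ce1abf7d01ebb74f1cb364d18a74ca12af5cc16ab54b14a344910972c60a9f3c80e9b3470c8f1c4068b143049324508870c202840608080))
))) (.node (.node (.node (.node (.leaf (nat_lit 0x467e708198af46c0351c73368c8052869041d92d44bc2d3c92760a824a6e806159ae48c4454c32f58981ce7660a21a3042b83d2c52b50b8154848c39f98d85ba2f409a55aa40be37207b1))
 (.leaf (nat_lit 0x2e60bd6aa58ad4b268cd8a6509d2cea13e6ca992e4d2a94e8c6911e2be80fdeba78edcc2890e0b670dda9e407ce9a386cca2488d096305ca8c162849426488901e386880e182830410080))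
) (.leaf (nat_lit 0x458f2234d9f42751a752949973253e80fdeb670ddaba78edcc2890e0b362c9a2b52a96274a9942f5ab981c3464da444851a03c74f982c54b91265090916305050e2030d1e407040608080))
) (.node (.leaf (nat_lit 0x2c54a55b978e9dca9332586101c2c3890610918285cf9b3a8274ca1293284492d5cbd854a34e93670dda9e3e75021469110202101982e58ab368c590d1c3c83f7afa0478d2229a3270d80))
 (.leaf (nat_lit 0x305eb96a84e992ac56a94b466c98d09f3a6c88f1a2cc972a4d4a74a8c07ef9eb86ed9abc76e9cc4870a0a03e78e982e58a9c3668ca44689093245088f1c4068b14304870c202830410080))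
)) (.node (.node (.node (.leaf (nat_lit 0x145510f8a749178f34d1f8295527ac864cf4ca61273c463171c6639f47911803750583a730d8317709844224ad032206e052072e82216ed82112e56d103266b11a65ec122a4eb54a542c5))
 (.leaf (nat_lit 0x488f1a2cc972a4d09f3a6d4a74a8b86ed9abc76e9cc07ef9ec4870a0a84e992ac56a94b05eb96b466c98982e58a9c3668ca03e78ea4468909426488901e3868c16284880e182840608080))
) (.leaf (nat_lit 0x386ed9ac4870a0bc76e9cc07ef9ea84e992b466c98ac56a94b05eb96c88f1a2d4a74a8cc972a4d09f3a6982e58aa4468909c3668ca03e78e92284c88e203c68a182c486101c282080c080))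
) (.node (.leaf (nat_lit 0x4a972664e9f368468f16452a746a376ce1ac385120bb74f1cbf7d01eb168c99a550993ad60b97a958a95a03a7cf1c326cd24428d1182a5cb122644a060e1440e1e3480a16246040608080))
 (.leaf (nat_lit 0x3b74f1cc385120bf7d01eb76ce1aab54b14b364d18af5cc16a74ca12cb95324d3a5528cf9d426c78d2229b3470ca3449109f3c80e972c60a901e3868c162849426488880e18282080c080))
))))

noncomputable def sN_S_t : BT :=
sN_S_t0

noncomputable def sN_S : ℕ → ℕ → ℕ := fun x i => Nat.land (Nat.shiftRight (BT.get sN_S_t x) (Nat.mul (nat_lit 7) i)) (nat_lit 127)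

noncomputable def sN_defs : LT :=
(.node (.node (.node (.node (.node (.leaf [nat_lit 0])
 (.leaf [nat_lit 0,nat_lit 12,nat_lit 13])
) (.leaf [nat_lit 0,nat_lit 6,nat_lit 6,nat_lit 6,nat_lit 5,nat_lit 4,nat_lit 5])
) (.node (.node (.leaf [nat_lit 0,nat_lit 3,nat_lit 0,nat_lit 0,nat_lit 3,nat_lit 2,nat_lit 1,nat_lit 0,nat_lit 3,nat_lit 0])
 (.leaf [nat_lit 0,nat_lit 15,nat_lit 16])
) (.leaf [nat_lit 0,nat_lit 8,nat_lit 9,nat_lit 8,nat_lit 8])
)) (.node (.node (.node (.leaf [nat_lit 1,nat_lit 0])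
 (.leaf [nat_lit 1,nat_lit 16])
) (.leaf [nat_lit 1,nat_lit 8])
) (.node (.leaf [nat_lit 1,nat_lit 4])
 (.leaf [nat_lit 1,nat_lit 12])
))) (.node (.node (.node (.node (.leaf [nat_lit 0])
 (.leaf [nat_lit 1,nat_lit 15])
) (.leaf [nat_lit 1,nat_lit 7])
) (.node (.leaf [nat_lit 0,nat_lit 1,nat_lit 2,nat_lit 2,nat_lit 3,nat_lit 3,nat_lit 0,nat_lit 3,nat_lit 0])
 (.leaf [nat_lit 1,nat_lit 11])
)) (.node (.node (.node (.leaf [nat_lit 1,nat_lit 1])
 (.leaf [nat_lit 0,nat_lit 16,nat_lit 15])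
) (.leaf [nat_lit 0,nat_lit 7,nat_lit 10,nat_lit 10,nat_lit 9])
) (.node (.leaf [nat_lit 0,nat_lit 4,nat_lit 5,nat_lit 4,nat_lit 4,nat_lit 5,nat_lit 6])
 (.leaf [nat_lit 0,nat_lit 14,nat_lit 11])
))))
noncomputable def sN_iota : ℕ → ℕ := getP (nat_lit 8) (nat_lit 255) (nat_lit 0x30102000509070d0b110f1413)
noncomputable def sN_inv : ℕ → ℕ := getP (nat_lit 8) (nat_lit 255) (nat_lit 0xb0c090a080607040502030100)
noncomputable def sN_hws : LT := .leaf []

noncomputable def sN_T_t0 : BT :=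
(.node (.node (.node (.node (.leaf (nat_lit 0x488f1a2cc972a4d09f3a6d4a74a8b86ed9abc76e9cc07ef9ec4870a0a84e992ac56a94b05eb96b466c98982e58a9c3668ca03e78ea4468909426488901e3868c16284880e182840608080))
 (.leaf (nat_lit 0x2c54a55b978e9dca9332586101c2c3890610918285cf9b3a8274ca1293284492d5cbd854a34e93670dda9e3e75021469110202101982e58ab368c590d1c3c83f7afa0478d2229a3270d80))
) (.node (.leaf (nat_lit 0x386ed9ac4870a0bc76e9cc07ef9ea84e992b466c98ac56a94b05eb96c88f1a2d4a74a8cc972a4d09f3a6982e58aa4468909c3668ca03e78e92284c88e203c68a182c486101c282080c080))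
 (.leaf (nat_lit 0x145510f8a749178f34d1f8295527ac864cf4ca61273c463171c6639f47911803750583a730d8317709844224ad032206e052072e82216ed82112e56d103266b11a65ec122a4eb54a542c5))
)) (.node (.node (.leaf (nat_lit 0x3b74f1cc385120bf7d01eb76ce1aab54b14b364d18af5cc16a74ca12cb95324d3a5528cf9d426c78d2229b3470ca3449109f3c80e972c60a901e3868c162849426488880e18282080c080))
 (.leaf (nat_lit 0x154868f99405919d3888ba13078dc36d01cbf7511abb7ce20b784f1ecc9b1e948a32e7548b3e550934e32e56c54324eb562666a582a5e95a09264030d0e309051e505111620704000c082))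
) (.leaf (nat_lit 0x4a972664e9f368468f16452a746a376ce1ac385120bb74f1cbf7d01eb168c99a550993ad60b97a958a95a03a7cf1c326cd24428d1182a5cb122644a060e1440e1e3480a16246040608080))
)) (.node (.node (.node (.leaf (nat_lit 0x509f3a6d4a74a8c88f1a2cc972a4c07ef9ec4870a0b86ed9abc76e9cb05eb96b466c98a84e992ac56a94a03e78ea446890982e58a9c3668c9426488901e3868c16284880e182840608080))
 (.leaf (nat_lit 0x2c4cc57a854b59b45ca53b064955be88ddcc280edab678fe0ba710de9536811192e90f1d4660d213e70b539b2a44fa31a64b8b4a847933aa0a2634412161480e0e24a061e446040400083))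
) (.leaf (nat_lit 0x305eb96a84e992ac56a94b466c98d09f3a6c88f1a2cc972a4d4a74a8c07ef9eb86ed9abc76e9cc4870a0a03e78e982e58a9c3668ca44689093245088f1c4068b14304870c202830410080))
) (.node (.node (.leaf (nat_lit 0x2e60bd6aa58ad4b268cd8a6509d2cea13e6ca992e4d2a94e8c6911e2be80fdeba78edcc2890e0b670dda9e407ce9a386cca2488d096305ca8c162849426488901e386880e182830410080))
 (.leaf (nat_lit 0x467e708198af46c0351c73368c8052869041d92d44bc2d3c92760a824a6e806159ae48c4454c32f58981ce7660a21a3042b83d2c52b50b8154848c39f98d85ba2f409a55aa40be37207b1))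
) (.leaf (nat_lit 0x458f2234d9f42751a752949973253e80fdeb670ddaba78edcc2890e0b362c9a2b52a96274a9942f5ab981c3464da444851a03c74f982c54b91265090916305050e2030d1e407040608080))
)))

noncomputable def sN_T_t : BT :=
sN_T_t0

noncomputable def sN_T : ℕ → ℕ → ℕ := fun x i => Nat.land (Nat.shiftRight (BT.get sN_T_t x) (Nat.mul (nat_lit 7) i)) (nat_lit 127)

noncomputable def sN_E_t0 : BT :=
(.node (.node (.node (.leaf (nat_lit 0x307802c258040a61702602c01814c1981b0c80b02505c0b80b00e02405817031814038070320140c80701581b0660f4150640980301180c0661501200c0080f02585c02818c2a0140080d00e003086190218440180302985c08810c2206409a190320530c8110320640b8170218430341482604100))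
 (.leaf (nat_lit 0x20240640000000))
) (.leaf (nat_lit 0x303808c0a0330260a81a03a07608c160340680d01c8000000000000000))
) (.node (.node (.leaf (nat_lit 0x30280300d83c01600c0e00c0241100203c0260300e0380000000000000000000000000000000000000000000508a1142080000))
 (.leaf (nat_lit 0x1000000000018080000000100800000000800000000000000000000000000000000000000000000000000000000000))
) (.leaf (nat_lit 0x20440a4000000000000000000))
))

noncomputable def sN_E_t : BT :=
sN_E_t0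

noncomputable def sN_E : ℕ → ℕ → ℕ := fun x i => Nat.land (Nat.shiftRight (BT.get sN_E_t x) (Nat.mul (nat_lit 11) i)) (nat_lit 2047)

theorem sN_slp0 : allLt (nat_lit 19) (fun i => force (Nat.add (nat_lit 2) i) (slpOK sN_S sN_defs (nat_lit 85))) = true := by decide +kernel

theorem sN_ren : allLt (nat_lit 13) (fun x => force (sN_iota x) fun y => band (blt y (nat_lit 21)) (allRange (nat_lit 0) (nat_lit 85) fun i => Nat.beq (sN_S y i) (sN_T x i))) = true := by decide +kernel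

theorem sN_L5_o : band (allRange (nat_lit 0) (nat_lit 85) (orbOK sN_T (nat_lit 2) (sN_E (nat_lit 5)) (Nat.beq (nat_lit 21)))) (band (Nat.ble (nat_lit 4) (count2 (nat_lit 85) fun p => Nat.ble 256 (sN_E (nat_lit 5) p))) (allLt (nat_lit 0) (fun x => Nat.beq (sN_T x (nat_lit 21)) (nat_lit 21)))) = true := by decide +kernel

theorem sN_L4_o : band (allRange (nat_lit 0) (nat_lit 85) (orbOK sN_T (nat_lit 4) (sN_E (nat_lit 4)) (Nat.beq (nat_lit 2)))) (band (Nat.ble (nat_lit 3) (count2 (nat_lit 85) fun p => Nat.ble 256 (sN_E (nat_lit 4) p))) (allLt (nat_lit 2) (fun x => Nat.beq (sN_T x (nat_lit 2)) (nat_lit 2)))) = true := by decide +kernel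

theorem sN_L3_o : band (allRange (nat_lit 0) (nat_lit 85) (orbOK sN_T (nat_lit 6) (sN_E (nat_lit 3)) (Nat.beq (nat_lit 6)))) (band (Nat.ble (nat_lit 3) (count2 (nat_lit 85) fun p => Nat.ble 256 (sN_E (nat_lit 3) p))) (allLt (nat_lit 4) (fun x => Nat.beq (sN_T x (nat_lit 6)) (nat_lit 6)))) = true := by decide +kernel

theorem sN_L2_o : band (allRange (nat_lit 0) (nat_lit 85) (orbOK sN_T (nat_lit 8) (sN_E (nat_lit 2)) (Nat.beq (nat_lit 5)))) (band (Nat.ble (nat_lit 16) (count2 (nat_lit 85) fun p => Nat.ble 256 (sN_E (nat_lit 2) p))) (allLt (nat_lit 6) (fun x => Nat.beq (sN_T x (nat_lit 5)) (nat_lit 5)))) = true := by decide +kernel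

theorem sN_L1_o : band (allRange (nat_lit 0) (nat_lit 85) (orbOK sN_T (nat_lit 9) (sN_E (nat_lit 1)) (Nat.beq (nat_lit 1)))) (band (Nat.ble (nat_lit 20) (count2 (nat_lit 85) fun p => Nat.ble 256 (sN_E (nat_lit 1) p))) (allLt (nat_lit 8) (fun x => Nat.beq (sN_T x (nat_lit 1)) (nat_lit 1)))) = true := by decide +kernel

theorem sN_L0_o : band (allRange (nat_lit 0) (nat_lit 85) (orbOK sN_T (nat_lit 13) (sN_E (nat_lit 0)) (Nat.beq (nat_lit 0)))) (band (Nat.ble (nat_lit 85) (count2 (nat_lit 85) fun p => Nat.ble 256 (sN_E (nat_lit 0) p))) (allLt (nat_lit 9) (fun x => Nat.beq (sN_T x (nat_lit 0)) (nat_lit 0)))) = true := by decide +kernel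

/-- The letters: a strong generating set, deepest stabiliser first. -/
noncomputable def sN_g {G : Type*} [Group G] (a : ℕ → G) : ℕ → G := fun x => slp a 2 sN_defs (sN_iota x)

theorem sN_tabs {G α : Type*} [Group G] [MulAction G α] {e : ℕ → α} {a : ℕ → G} (h0 : Tabs e 85 sN_S a 2) : Tabs e 85 sN_T (sN_g a) 13 :=
  Tabs.rename (ι := sN_iota) (g := slp a 2 sN_defs) ((Tabs.slp_base sN_defs h0).slp_add (by decide) _ sN_slp0) sN_ren

theorem sN_gen {G : Type*} [Group G] (a : ℕ → G) : genLt (sN_g a) 13 = genLt a 2 :=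
  genLt_slp_eq a sN_defs (back := getP 8 255 (nat_lit 0xb09)) (by decide +kernel)

theorem sN_low5 {G α : Type*} [Group G] [MulAction G α] {e : ℕ → α} {a : ℕ → G} (he : Set.InjOn e (Set.Iio 85)) (h0 : Tabs e 85 sN_S a 2) :
    LowLevel (genLt (sN_g a) 2) (genLt (sN_g a) 0) (e 21) 4 :=
  Tabs.lowLevel (sN_tabs h0) he (by decide) (by decide) (by decide) sN_L5_o

theorem sN_ge5 {G α : Type*} [Group G] [MulAction G α] {e : ℕ → α} {a : ℕ → G} (he : Set.InjOn e (Set.Iio 85)) (h0 : Tabs e 85 sN_S a 2) :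
    Finite (genLt (sN_g a) 2) → 4 ≤ Nat.card (genLt (sN_g a) 2) := fun hK =>
  (sN_low5 he h0).card hK (one_le_card_fin _)

theorem sN_fix5 {G α : Type*} [Group G] [MulAction G α] {e : ℕ → α} {a : ℕ → G} (he : Set.InjOn e (Set.Iio 85)) (h0 : Tabs e 85 sN_S a 2) :
    ∀ X : Subgroup G, Finite X → (genLt (sN_g a) 2) ≤ X → 4 * Nat.card (fixB e X [21]) ≤ Nat.card X :=
  (sN_low5 he h0).card_fix (card_fix_nil _ _)

theorem sN_low4 {G α : Type*} [Group G] [MulAction G α] {e : ℕ → α} {a : ℕ → G} (he : Set.InjOn e (Set.Iio 85)) (h0 : Tabs e 85 sN_S a 2) :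
    LowLevel (genLt (sN_g a) 4) (genLt (sN_g a) 2) (e 2) 3 :=
  Tabs.lowLevel (sN_tabs h0) he (by decide) (by decide) (by decide) sN_L4_o

theorem sN_ge4 {G α : Type*} [Group G] [MulAction G α] {e : ℕ → α} {a : ℕ → G} (he : Set.InjOn e (Set.Iio 85)) (h0 : Tabs e 85 sN_S a 2) :
    Finite (genLt (sN_g a) 4) → 12 ≤ Nat.card (genLt (sN_g a) 4) := fun hK =>
  (sN_low4 he h0).card hK (sN_ge5 he h0)

theorem sN_fix4 {G α : Type*} [Group G] [MulAction G α] {e : ℕ → α} {a : ℕ → G} (he : Set.InjOn e (Set.Iio 85)) (h0 : Tabs e 85 sN_S a 2) :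
    ∀ X : Subgroup G, Finite X → (genLt (sN_g a) 4) ≤ X → 12 * Nat.card (fixB e X [2, 21]) ≤ Nat.card X :=
  (sN_low4 he h0).card_fix (sN_fix5 he h0)

theorem sN_low3 {G α : Type*} [Group G] [MulAction G α] {e : ℕ → α} {a : ℕ → G} (he : Set.InjOn e (Set.Iio 85)) (h0 : Tabs e 85 sN_S a 2) :
    LowLevel (genLt (sN_g a) 6) (genLt (sN_g a) 4) (e 6) 3 :=
  Tabs.lowLevel (sN_tabs h0) he (by decide) (by decide) (by decide) sN_L3_o

theorem sN_ge3 {G α : Type*} [Group G] [MulAction G α] {e : ℕ → α} {a : ℕ → G} (he : Set.InjOn e (Set.Iio 85)) (h0 : Tabs e 85 sN_S a 2) :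
    Finite (genLt (sN_g a) 6) → 36 ≤ Nat.card (genLt (sN_g a) 6) := fun hK =>
  (sN_low3 he h0).card hK (sN_ge4 he h0)

theorem sN_fix3 {G α : Type*} [Group G] [MulAction G α] {e : ℕ → α} {a : ℕ → G} (he : Set.InjOn e (Set.Iio 85)) (h0 : Tabs e 85 sN_S a 2) :
    ∀ X : Subgroup G, Finite X → (genLt (sN_g a) 6) ≤ X → 36 * Nat.card (fixB e X [6, 2, 21]) ≤ Nat.card X :=
  (sN_low3 he h0).card_fix (sN_fix4 he h0)

theorem sN_low2 {G α : Type*} [Group G] [MulAction G α] {e : ℕ → α} {a : ℕ → G} (he : Set.InjOn e (Set.Iio 85)) (h0 : Tabs e 85 sN_S a 2) :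
    LowLevel (genLt (sN_g a) 8) (genLt (sN_g a) 6) (e 5) 16 :=
  Tabs.lowLevel (sN_tabs h0) he (by decide) (by decide) (by decide) sN_L2_o

theorem sN_ge2 {G α : Type*} [Group G] [MulAction G α] {e : ℕ → α} {a : ℕ → G} (he : Set.InjOn e (Set.Iio 85)) (h0 : Tabs e 85 sN_S a 2) :
    Finite (genLt (sN_g a) 8) → 576 ≤ Nat.card (genLt (sN_g a) 8) := fun hK =>
  (sN_low2 he h0).card hK (sN_ge3 he h0)

theorem sN_fix2 {G α : Type*} [Group G] [MulAction G α] {e : ℕ → α} {a : ℕ → G} (he : Set.InjOn e (Set.Iio 85)) (h0 : Tabs e 85 sN_S a 2) :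
    ∀ X : Subgroup G, Finite X → (genLt (sN_g a) 8) ≤ X → 576 * Nat.card (fixB e X [5, 6, 2, 21]) ≤ Nat.card X :=
  (sN_low2 he h0).card_fix (sN_fix3 he h0)

theorem sN_low1 {G α : Type*} [Group G] [MulAction G α] {e : ℕ → α} {a : ℕ → G} (he : Set.InjOn e (Set.Iio 85)) (h0 : Tabs e 85 sN_S a 2) :
    LowLevel (genLt (sN_g a) 9) (genLt (sN_g a) 8) (e 1) 20 :=
  Tabs.lowLevel (sN_tabs h0) he (by decide) (by decide) (by decide) sN_L1_o

theorem sN_ge1 {G α : Type*} [Group G] [MulAction G α] {e : ℕ → α} {a : ℕ → G} (he : Set.InjOn e (Set.Iio 85)) (h0 : Tabs e 85 sN_S a 2) :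
    Finite (genLt (sN_g a) 9) → 11520 ≤ Nat.card (genLt (sN_g a) 9) := fun hK =>
  (sN_low1 he h0).card hK (sN_ge2 he h0)

theorem sN_fix1 {G α : Type*} [Group G] [MulAction G α] {e : ℕ → α} {a : ℕ → G} (he : Set.InjOn e (Set.Iio 85)) (h0 : Tabs e 85 sN_S a 2) :
    ∀ X : Subgroup G, Finite X → (genLt (sN_g a) 9) ≤ X → 11520 * Nat.card (fixB e X [1, 5, 6, 2, 21]) ≤ Nat.card X :=
  (sN_low1 he h0).card_fix (sN_fix2 he h0)

theorem sN_low0 {G α : Type*} [Group G] [MulAction G α] {e : ℕ → α} {a : ℕ → G} (he : Set.InjOn e (Set.Iio 85)) (h0 : Tabs e 85 sN_S a 2) :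
    LowLevel (genLt (sN_g a) 13) (genLt (sN_g a) 9) (e 0) 85 :=
  Tabs.lowLevel (sN_tabs h0) he (by decide) (by decide) (by decide) sN_L0_o

theorem sN_ge0 {G α : Type*} [Group G] [MulAction G α] {e : ℕ → α} {a : ℕ → G} (he : Set.InjOn e (Set.Iio 85)) (h0 : Tabs e 85 sN_S a 2) :
    Finite (genLt (sN_g a) 13) → 979200 ≤ Nat.card (genLt (sN_g a) 13) := fun hK =>
  (sN_low0 he h0).card hK (sN_ge1 he h0)

theorem sN_fix0 {G α : Type*} [Group G] [MulAction G α] {e : ℕ → α} {a : ℕ → G} (he : Set.InjOn e (Set.Iio 85)) (h0 : Tabs e 85 sN_S a 2) :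
    ∀ X : Subgroup G, Finite X → (genLt (sN_g a) 13) ≤ X → 979200 * Nat.card (fixB e X [0, 1, 5, 6, 2, 21]) ≤ Nat.card X :=
  (sN_low0 he h0).card_fix (sN_fix1 he h0)

theorem sN_ub0 {G α : Type*} [Group G] [MulAction G α] {e : ℕ → α} {a : ℕ → G} (he : Set.InjOn e (Set.Iio 85)) (h0 : Tabs e 85 sN_S a 2) (hub : Nat.card (genLt a 2) ≠ 0 ∧ Nat.card (genLt a 2) ≤ 979200) :
    Nat.card (genLt (sN_g a) 13) ≠ 0 ∧ Nat.card (genLt (sN_g a) 13) ≤ 979200 := by rw [sN_gen]; exact hub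

theorem sN_level0 {G α : Type*} [Group G] [MulAction G α] {e : ℕ → α} {a : ℕ → G} (he : Set.InjOn e (Set.Iio 85)) (h0 : Tabs e 85 sN_S a 2) (hub : Nat.card (genLt a 2) ≠ 0 ∧ Nat.card (genLt a 2) ≤ 979200) :
    Level (genLt (sN_g a) 13) (genLt (sN_g a) 9) (e 0) 85 :=
  ((sN_low0 he h0).level (c := 11520) (sN_ub0 he h0 hub) (sN_ge1 he h0)).1

theorem sN_ub1 {G α : Type*} [Group G] [MulAction G α] {e : ℕ → α} {a : ℕ → G} (he : Set.InjOn e (Set.Iio 85)) (h0 : Tabs e 85 sN_S a 2) (hub : Nat.card (genLt a 2) ≠ 0 ∧ Nat.card (genLt a 2) ≤ 979200) :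
    Nat.card (genLt (sN_g a) 9) ≠ 0 ∧ Nat.card (genLt (sN_g a) 9) ≤ 11520 :=
  ((sN_low0 he h0).level (c := 11520) (sN_ub0 he h0 hub) (sN_ge1 he h0)).2

theorem sN_level1 {G α : Type*} [Group G] [MulAction G α] {e : ℕ → α} {a : ℕ → G} (he : Set.InjOn e (Set.Iio 85)) (h0 : Tabs e 85 sN_S a 2) (hub : Nat.card (genLt a 2) ≠ 0 ∧ Nat.card (genLt a 2) ≤ 979200) :
    Level (genLt (sN_g a) 9) (genLt (sN_g a) 8) (e 1) 20 :=
  ((sN_low1 he h0).level (c := 576) (sN_ub1 he h0 hub) (sN_ge2 he h0)).1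

theorem sN_ub2 {G α : Type*} [Group G] [MulAction G α] {e : ℕ → α} {a : ℕ → G} (he : Set.InjOn e (Set.Iio 85)) (h0 : Tabs e 85 sN_S a 2) (hub : Nat.card (genLt a 2) ≠ 0 ∧ Nat.card (genLt a 2) ≤ 979200) :
    Nat.card (genLt (sN_g a) 8) ≠ 0 ∧ Nat.card (genLt (sN_g a) 8) ≤ 576 :=
  ((sN_low1 he h0).level (c := 576) (sN_ub1 he h0 hub) (sN_ge2 he h0)).2

theorem sN_level2 {G α : Type*} [Group G] [MulAction G α] {e : ℕ → α} {a : ℕ → G} (he : Set.InjOn e (Set.Iio 85)) (h0 : Tabs e 85 sN_S a 2) (hub : Nat.card (genLt a 2) ≠ 0 ∧ Nat.card (genLt a 2) ≤ 979200) :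
    Level (genLt (sN_g a) 8) (genLt (sN_g a) 6) (e 5) 16 :=
  ((sN_low2 he h0).level (c := 36) (sN_ub2 he h0 hub) (sN_ge3 he h0)).1

theorem sN_ub3 {G α : Type*} [Group G] [MulAction G α] {e : ℕ → α} {a : ℕ → G} (he : Set.InjOn e (Set.Iio 85)) (h0 : Tabs e 85 sN_S a 2) (hub : Nat.card (genLt a 2) ≠ 0 ∧ Nat.card (genLt a 2) ≤ 979200) :
    Nat.card (genLt (sN_g a) 6) ≠ 0 ∧ Nat.card (genLt (sN_g a) 6) ≤ 36 :=
  ((sN_low2 he h0).level (c := 36) (sN_ub2 he h0 hub) (sN_ge3 he h0)).2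

theorem sN_level3 {G α : Type*} [Group G] [MulAction G α] {e : ℕ → α} {a : ℕ → G} (he : Set.InjOn e (Set.Iio 85)) (h0 : Tabs e 85 sN_S a 2) (hub : Nat.card (genLt a 2) ≠ 0 ∧ Nat.card (genLt a 2) ≤ 979200) :
    Level (genLt (sN_g a) 6) (genLt (sN_g a) 4) (e 6) 3 :=
  ((sN_low3 he h0).level (c := 12) (sN_ub3 he h0 hub) (sN_ge4 he h0)).1

theorem sN_ub4 {G α : Type*} [Group G] [MulAction G α] {e : ℕ → α} {a : ℕ → G} (he : Set.InjOn e (Set.Iio 85)) (h0 : Tabs e 85 sN_S a 2) (hub : Nat.card (genLt a 2) ≠ 0 ∧ Nat.card (genLt a 2) ≤ 979200) :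
    Nat.card (genLt (sN_g a) 4) ≠ 0 ∧ Nat.card (genLt (sN_g a) 4) ≤ 12 :=
  ((sN_low3 he h0).level (c := 12) (sN_ub3 he h0 hub) (sN_ge4 he h0)).2

theorem sN_level4 {G α : Type*} [Group G] [MulAction G α] {e : ℕ → α} {a : ℕ → G} (he : Set.InjOn e (Set.Iio 85)) (h0 : Tabs e 85 sN_S a 2) (hub : Nat.card (genLt a 2) ≠ 0 ∧ Nat.card (genLt a 2) ≤ 979200) :
    Level (genLt (sN_g a) 4) (genLt (sN_g a) 2) (e 2) 3 :=
  ((sN_low4 he h0).level (c := 4) (sN_ub4 he h0 hub) (sN_ge5 he h0)).1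

theorem sN_ub5 {G α : Type*} [Group G] [MulAction G α] {e : ℕ → α} {a : ℕ → G} (he : Set.InjOn e (Set.Iio 85)) (h0 : Tabs e 85 sN_S a 2) (hub : Nat.card (genLt a 2) ≠ 0 ∧ Nat.card (genLt a 2) ≤ 979200) :
    Nat.card (genLt (sN_g a) 2) ≠ 0 ∧ Nat.card (genLt (sN_g a) 2) ≤ 4 :=
  ((sN_low4 he h0).level (c := 4) (sN_ub4 he h0 hub) (sN_ge5 he h0)).2

theorem sN_level5 {G α : Type*} [Group G] [MulAction G α] {e : ℕ → α} {a : ℕ → G} (he : Set.InjOn e (Set.Iio 85)) (h0 : Tabs e 85 sN_S a 2) (hub : Nat.card (genLt a 2) ≠ 0 ∧ Nat.card (genLt a 2) ≤ 979200) :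
    Level (genLt (sN_g a) 2) (genLt (sN_g a) 0) (e 21) 4 :=
  ((sN_low5 he h0).level (c := 1) (sN_ub5 he h0 hub) (one_le_card_fin _)).1

theorem sN_card5 {G α : Type*} [Group G] [MulAction G α] {e : ℕ → α} {a : ℕ → G} (he : Set.InjOn e (Set.Iio 85)) (h0 : Tabs e 85 sN_S a 2) (hub : Nat.card (genLt a 2) ≠ 0 ∧ Nat.card (genLt a 2) ≤ 979200) :
    Nat.card (genLt (sN_g a) 2) = 4 :=
  (sN_level5 he h0 hub).card (card_genLt_zero _)

theorem sN_base5 {G α : Type*} [Group G] [MulAction G α] {e : ℕ → α} {a : ℕ → G} (he : Set.InjOn e (Set.Iio 85)) (h0 : Tabs e 85 sN_S a 2) (hub : Nat.card (genLt a 2) ≠ 0 ∧ Nat.card (genLt a 2) ≤ 979200) :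
    IsBase e (genLt (sN_g a) 2) [21] :=
  (sN_level5 he h0 hub).base (isBase_genLt_zero _ _)

theorem sN_card4 {G α : Type*} [Group G] [MulAction G α] {e : ℕ → α} {a : ℕ → G} (he : Set.InjOn e (Set.Iio 85)) (h0 : Tabs e 85 sN_S a 2) (hub : Nat.card (genLt a 2) ≠ 0 ∧ Nat.card (genLt a 2) ≤ 979200) :
    Nat.card (genLt (sN_g a) 4) = 12 :=
  (sN_level4 he h0 hub).card (sN_card5 he h0 hub)

theorem sN_base4 {G α : Type*} [Group G] [MulAction G α] {e : ℕ → α} {a : ℕ → G} (he : Set.InjOn e (Set.Iio 85)) (h0 : Tabs e 85 sN_S a 2) (hub : Nat.card (genLt a 2) ≠ 0 ∧ Nat.card (genLt a 2) ≤ 979200) :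
    IsBase e (genLt (sN_g a) 4) [2, 21] :=
  (sN_level4 he h0 hub).base (sN_base5 he h0 hub)

theorem sN_card3 {G α : Type*} [Group G] [MulAction G α] {e : ℕ → α} {a : ℕ → G} (he : Set.InjOn e (Set.Iio 85)) (h0 : Tabs e 85 sN_S a 2) (hub : Nat.card (genLt a 2) ≠ 0 ∧ Nat.card (genLt a 2) ≤ 979200) :
    Nat.card (genLt (sN_g a) 6) = 36 :=
  (sN_level3 he h0 hub).card (sN_card4 he h0 hub)

theorem sN_base3 {G α : Type*} [Group G] [MulAction G α] {e : ℕ → α} {a : ℕ → G} (he : Set.InjOn e (Set.Iio 85)) (h0 : Tabs e 85 sN_S a 2) (hub : Nat.card (genLt a 2) ≠ 0 ∧ Nat.card (genLt a 2) ≤ 979200) :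
    IsBase e (genLt (sN_g a) 6) [6, 2, 21] :=
  (sN_level3 he h0 hub).base (sN_base4 he h0 hub)

theorem sN_card2 {G α : Type*} [Group G] [MulAction G α] {e : ℕ → α} {a : ℕ → G} (he : Set.InjOn e (Set.Iio 85)) (h0 : Tabs e 85 sN_S a 2) (hub : Nat.card (genLt a 2) ≠ 0 ∧ Nat.card (genLt a 2) ≤ 979200) :
    Nat.card (genLt (sN_g a) 8) = 576 :=
  (sN_level2 he h0 hub).card (sN_card3 he h0 hub)

theorem sN_base2 {G α : Type*} [Group G] [MulAction G α] {e : ℕ → α} {a : ℕ → G} (he : Set.InjOn e (Set.Iio 85)) (h0 : Tabs e 85 sN_S a 2) (hub : Nat.card (genLt a 2) ≠ 0 ∧ Nat.card (genLt a 2) ≤ 979200) :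
    IsBase e (genLt (sN_g a) 8) [5, 6, 2, 21] :=
  (sN_level2 he h0 hub).base (sN_base3 he h0 hub)

theorem sN_card1 {G α : Type*} [Group G] [MulAction G α] {e : ℕ → α} {a : ℕ → G} (he : Set.InjOn e (Set.Iio 85)) (h0 : Tabs e 85 sN_S a 2) (hub : Nat.card (genLt a 2) ≠ 0 ∧ Nat.card (genLt a 2) ≤ 979200) :
    Nat.card (genLt (sN_g a) 9) = 11520 :=
  (sN_level1 he h0 hub).card (sN_card2 he h0 hub)

theorem sN_base1 {G α : Type*} [Group G] [MulAction G α] {e : ℕ → α} {a : ℕ → G} (he : Set.InjOn e (Set.Iio 85)) (h0 : Tabs e 85 sN_S a 2) (hub : Nat.card (genLt a 2) ≠ 0 ∧ Nat.card (genLt a 2) ≤ 979200) :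
    IsBase e (genLt (sN_g a) 9) [1, 5, 6, 2, 21] :=
  (sN_level1 he h0 hub).base (sN_base2 he h0 hub)

theorem sN_card0 {G α : Type*} [Group G] [MulAction G α] {e : ℕ → α} {a : ℕ → G} (he : Set.InjOn e (Set.Iio 85)) (h0 : Tabs e 85 sN_S a 2) (hub : Nat.card (genLt a 2) ≠ 0 ∧ Nat.card (genLt a 2) ≤ 979200) :
    Nat.card (genLt (sN_g a) 13) = 979200 :=
  (sN_level0 he h0 hub).card (sN_card1 he h0 hub)

theorem sN_base0 {G α : Type*} [Group G] [MulAction G α] {e : ℕ → α} {a : ℕ → G} (he : Set.InjOn e (Set.Iio 85)) (h0 : Tabs e 85 sN_S a 2) (hub : Nat.card (genLt a 2) ≠ 0 ∧ Nat.card (genLt a 2) ≤ 979200) :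
    IsBase e (genLt (sN_g a) 13) [0, 1, 5, 6, 2, 21] :=
  (sN_level0 he h0 hub).base (sN_base1 he h0 hub)

theorem sN_hinv {G α : Type*} [Group G] [MulAction G α] {e : ℕ → α} {a : ℕ → G} (he : Set.InjOn e (Set.Iio 85)) (h0 : Tabs e 85 sN_S a 2) (hub : Nat.card (genLt a 2) ≠ 0 ∧ Nat.card (genLt a 2) ≤ 979200) : ∀ x < 13, sN_g a x * sN_g a (sN_inv x) = 1 :=
  (sN_tabs h0).hinv_of_base (sN_base0 he h0 hub) (by decide +kernel)

theorem sN_card {G α : Type*} [Group G] [MulAction G α] {e : ℕ → α} {a : ℕ → G} (he : Set.InjOn e (Set.Iio 85)) (h0 : Tabs e 85 sN_S a 2) (hub : Nat.card (genLt a 2) ≠ 0 ∧ Nat.card (genLt a 2) ≤ 979200) :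
    Nat.card (genLt a 2) = 979200 := by
  rw [← sN_gen]; exact sN_card0 he h0 hub

end Cfsg.Agent.Spor.MHe
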